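import Cfsg.Agent.Lib.Classical.UnitarySimple

/-!
Unitary root elements and a criterion for a subgroup to be all of `SU`.
-/

set_option autoImplicit false

namespace Cfsg.Agent.Lib.SUTwoGen

open scoped Matrix
open Cfsg.Agent.Lib.Classical (hermBilin hermBilin_apply hermBilin_isSymm hermBilin_nondegenerate
  hermBilin_single conjHom conjHom_apply conjHom_conjHom conjHom_ne_id exists_SU_of_isometry
  exists_partner mulVec_eq_smul two_le_q herm_symm)
open Cfsg.Agent.Lib.Geometry (exists_add_conj_eq det_id_add_smulRight)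

variable {F : Type*} [Field F] [Fintype F] {q n : ℕ} (hF : Fintype.card F = q ^ 2)

set_option quotPrecheck false in
local notation "B" => hermBilin hF n
set_option quotPrecheck false in
local notation "σ" => conjHom hF

theorem smul_herm (A : Cfsg.SU n F q) (x y : Fin n → F) : B (A • x) (A • y) = B x y :=
  A.2 y x

theorem su_ext {A A' : Cfsg.SU n F q} (h : ∀ x : Fin n → F, A • x = A' • x) : A = A' :=
  Subtype.ext (Subtype.ext (Matrix.ext_iff_mulVec.mpr h))

/-- `y ↦ y + B(u,y) x + (c B(u,y) - B(x,y)) u`. -/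
noncomputable def eLin (u x : Fin n → F) (c : F) : (Fin n → F) →ₗ[F] (Fin n → F) :=
  LinearMap.id + (B u).smulRight x + (c • B u - B x).smulRight u

theorem eLin_apply (u x : Fin n → F) (c : F) (y : Fin n → F) :
    eLin hF u x c y = y + B u y • x + (c * B u y - B x y) • u := rfl

/-- The parameters of a root element. -/
structure Good (u x : Fin n → F) (c : F) : Prop where
  uu : B u u = 0
  ux : B u x = 0
  tr : σ c + c + B x x = 0

theorem Good.xu {u x : Fin n → F} {c : F} (h : Good hF u x c) : B x u = 0 := by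
  rw [← herm_symm hF u x, h.ux, map_zero]

theorem eLin_isometry {u x : Fin n → F} {c : F} (h : Good hF u x c) (y z : Fin n → F) :
    B (eLin hF u x c y) (eLin hF u x c z) = B y z := by
  simp only [eLin_apply, map_add, map_smul, map_smulₛₗ, LinearMap.add_apply, LinearMap.smul_apply,
    smul_eq_mul, map_sub, map_mul, h.uu, h.ux, h.xu, ← herm_symm hF u y, ← herm_symm hF x y,
    conjHom_conjHom]
  linear_combination σ (B u y) * B u z * h.tr

theorem exists_eU {u x : Fin n → F} {c : F} (h : Good hF u x c) :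
    ∃ A : Cfsg.SU n F q, ∀ y, A • y = eLin hF u x c y := by
  have hinj : Function.Injective (eLin hF u x c) := by
    rw [injective_iff_map_eq_zero]
    intro y hy
    refine (hermBilin_nondegenerate hF n).1 y fun z => ?_
    rw [← eLin_isometry hF h y z, hy, map_zero, LinearMap.zero_apply]
  let g := LinearEquiv.ofBijective (eLin hF u x c) ⟨hinj, LinearMap.injective_iff_surjective.mp hinj⟩
  have hdet : LinearMap.det (g : (Fin n → F) →ₗ[F] (Fin n → F)) = 1 := by
    have hcomp : (g : (Fin n → F) →ₗ[F] (Fin n → F)) =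
        (LinearMap.id + ((c + B x x) • B u - B x).smulRight u) ∘ₗ
          (LinearMap.id + (B u).smulRight x) := LinearMap.ext fun y => by
      show eLin hF u x c y = _
      simp only [eLin_apply, LinearMap.comp_apply, LinearMap.add_apply, LinearMap.id_apply,
        LinearMap.smulRight_apply, LinearMap.sub_apply, LinearMap.smul_apply, smul_eq_mul, map_add,
        map_smul, h.ux]
      module
    rw [hcomp, LinearMap.det_comp, det_id_add_smulRight, det_id_add_smulRight, h.ux,
      LinearMap.sub_apply, LinearMap.smul_apply, h.uu, h.xu]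
    simp
  exact exists_SU_of_isometry hF g (eLin_isometry hF h) hdet

theorem eLin_comp {u x x' : Fin n → F} (c c' : F) (huu : B u u = 0) (hux : B u x = 0)
    (hux' : B u x' = 0) (y : Fin n → F) :
    eLin hF u x c (eLin hF u x' c' y) = eLin hF u (x + x') (c + c' - B x x') y := by
  have hxu : B x u = 0 := by rw [← herm_symm hF u x, hux, map_zero]
  simp only [eLin_apply, map_add, map_smul, LinearMap.add_apply, smul_eq_mul, huu, hux', hxu]
  module

theorem eLin_zero (u y : Fin n → F) : eLin hF u 0 0 y = y := by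
  simp [eLin_apply]

theorem eLin_smul_left (a : F) (u x : Fin n → F) (c : F) (y : Fin n → F) :
    eLin hF (a • u) x c y = eLin hF u (σ a • x) (a * σ a * c) y := by
  simp only [eLin_apply, map_smulₛₗ, LinearMap.smul_apply, smul_eq_mul, conjHom_conjHom]
  module

theorem eLin_conj (A : Cfsg.SU n F q) (u x : Fin n → F) (c : F) (y : Fin n → F) :
    A • eLin hF u x c y = eLin hF (A • u) (A • x) c (A • y) := by
  rw [eLin_apply, eLin_apply, smul_herm hF, smul_herm hF, smul_add, smul_add, smul_comm A,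
    smul_comm A]

/-- The root element with these parameters lies in `H`. -/
def EIn (H : Subgroup (Cfsg.SU n F q)) (u x : Fin n → F) (c : F) : Prop :=
  Good hF u x c ∧ ∃ A ∈ H, ∀ y, A • y = eLin hF u x c y

variable {hF} {H : Subgroup (Cfsg.SU n F q)} {u x x' : Fin n → F} {c c' : F}

theorem EIn.congr (h : EIn hF H u x c) {u' : Fin n → F} {c'' : F} {x'' : Fin n → F} (e1 : u = u')
    (e2 : x = x'') (e3 : c = c'') : EIn hF H u' x'' c'' := by
  subst e1 e2 e3; exact h

theorem EIn.mem (h : EIn hF H u x c) {A : Cfsg.SU n F q} (hA : ∀ y, A • y = eLin hF u x c y) :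
    A ∈ H := by
  obtain ⟨A', hA', hy⟩ := h.2
  rwa [su_ext (A := A) (A' := A') fun y => (hA y).trans (hy y).symm]

theorem EIn.one (huu : B u u = 0) : EIn hF H u 0 0 :=
  ⟨⟨huu, map_zero _, by simp⟩, 1, one_mem H, fun y => by rw [one_smul, eLin_zero]⟩

theorem EIn.mul (h : EIn hF H u x c) (h' : EIn hF H u x' c') :
    EIn hF H u (x + x') (c + c' - B x x') := by
  obtain ⟨g, A, hA, hy⟩ := h
  obtain ⟨g', A', hA', hy'⟩ := h'
  refine ⟨⟨g.uu, by rw [map_add, g.ux, g'.ux, add_zero], ?_⟩, A * A', mul_mem hA hA', fun y => ?_⟩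
  · simp only [map_add, map_sub, LinearMap.add_apply, herm_symm hF x x']
    linear_combination g.tr + g'.tr
  · rw [mul_smul, hy', hy, eLin_comp hF c c' g.uu g.ux g'.ux]

theorem EIn.inv (h : EIn hF H u x c) : EIn hF H u (-x) (σ c) := by
  obtain ⟨g, A, hA, hy⟩ := h
  have hux : B u (-x) = 0 := by rw [map_neg, g.ux, neg_zero]
  refine ⟨⟨g.uu, hux, ?_⟩, A⁻¹, inv_mem hA, fun y => ?_⟩
  · simp only [conjHom_conjHom, map_neg, LinearMap.neg_apply, neg_neg]
    linear_combination g.tr
  · rw [inv_smul_eq_iff, hy, eLin_comp hF c _ g.uu g.ux hux, add_neg_cancel, map_neg, sub_neg_eq_add]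
    have : c + σ c + B x x = 0 := by linear_combination g.tr
    rw [this, eLin_zero]

theorem EIn.conj (h : EIn hF H u x c) {k : Cfsg.SU n F q} (hk : k ∈ H) :
    EIn hF H (k • u) (k • x) c := by
  obtain ⟨g, A, hA, hy⟩ := h
  refine ⟨⟨by rw [smul_herm hF, g.uu], by rw [smul_herm hF, g.ux], by rw [smul_herm hF]; exact g.tr⟩,
    k * A * k⁻¹, mul_mem (mul_mem hk hA) (inv_mem hk), fun y => ?_⟩
  rw [mul_smul, mul_smul, hy, eLin_conj hF, smul_inv_smul]

theorem EIn.unscale {a : F} (h : EIn hF H (a • u) x c) (ha : a ≠ 0) :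
    EIn hF H u (σ a • x) (a * σ a * c) := by
  obtain ⟨g, A, hA, hy⟩ := h
  have hσa : σ a ≠ 0 := (map_ne_zero_iff _ (RingHom.injective _)).mpr ha
  have huu : B u u = 0 := by simpa [map_smulₛₗ, ha, hσa] using g.uu
  have hux : B u x = 0 := by simpa [map_smulₛₗ, ha, hσa] using g.ux
  refine ⟨⟨huu, by rw [map_smul, hux, smul_zero], ?_⟩, A, hA, fun y => (hy y).trans ?_⟩
  · simp only [map_mul, map_smul, map_smulₛₗ, LinearMap.smul_apply, smul_eq_mul, conjHom_conjHom]
    linear_combination a * σ a * g.tr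
  · exact eLin_smul_left hF a u x c y

/-- The whole root group at `u`. -/
def UIn (hF : Fintype.card F = q ^ 2) (H : Subgroup (Cfsg.SU n F q)) (u : Fin n → F) : Prop :=
  ∀ (x : Fin n → F) (c : F), Good hF u x c → EIn hF H u x c

theorem UIn.of_parts (huu : B u u = 0) (hx : ∀ x, B u x = 0 → ∃ c, EIn hF H u x c)
    (hc : ∀ c : F, σ c + c = 0 → EIn hF H u 0 c) : UIn hF H u := by
  intro x c g
  obtain ⟨c0, h⟩ := hx x g.ux
  refine (h.mul (hc (c - c0) ?_)).congr rfl (add_zero x) (by rw [map_zero]; ring)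
  rw [map_sub]
  linear_combination g.tr - h.1.tr

theorem UIn.conj (h : UIn hF H u) {k : Cfsg.SU n F q} (hk : k ∈ H) : UIn hF H (k • u) := by
  intro x c g
  have := (h (k⁻¹ • x) c ⟨by rw [← smul_herm hF k, g.uu],
    by rw [← smul_herm hF k, smul_inv_smul, g.ux],
    by rw [← smul_herm hF k (k⁻¹ • x), smul_inv_smul]; exact g.tr⟩).conj hk
  rwa [smul_inv_smul] at this

theorem UIn.of_smul {a : F} (h : UIn hF H (a • u)) (ha : a ≠ 0) : UIn hF H u := by
  intro x c g
  have hσa : σ a ≠ 0 := (map_ne_zero_iff _ (RingHom.injective _)).mpr ha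
  refine (((h ((σ a)⁻¹ • x) (c / (a * σ a))) ⟨?_, ?_, ?_⟩).unscale ha).congr rfl ?_ ?_
  · simp [map_smulₛₗ, g.uu]
  · simp [map_smulₛₗ, g.ux]
  · simp only [map_div₀, map_mul, map_smul, map_smulₛₗ, map_inv₀, LinearMap.smul_apply, smul_eq_mul,
      conjHom_conjHom]
    field_simp
    linear_combination g.tr
  · rw [smul_smul, mul_inv_cancel₀ hσa, one_smul]
  · field_simp

/-- Moving a point with non-zero product with `e` onto the line of `f`. -/
theorem exists_to_line {e f w : Fin n → F} (he : B e e = 0) (hf : B f f = 0) (hef : B e f = 1)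
    (hU : UIn hF H e) (hw : B w w = 0) (ht : B e w ≠ 0) :
    ∃ k ∈ H, k • w = B e w • f := by
  set t := B e w with htdef
  set s := B f w with hsdef
  have hfe : B f e = 1 := by rw [← herm_symm hF e f, hef, map_one]
  have hwe : B w e = σ t := (herm_symm hF e w).symm
  have hwf : B w f = σ s := (herm_symm hF f w).symm
  set r := w - s • e - t • f with hr
  have hσt : σ t ≠ 0 := (map_ne_zero_iff _ (RingHom.injective _)).mpr ht
  have her : B e r = 0 := by
    simp only [hr, map_sub, map_smul, ← htdef, he, hef, smul_eq_mul]; ring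
  have hfr : B f r = 0 := by
    simp only [hr, map_sub, map_smul, ← hsdef, hf, hfe, smul_eq_mul]; ring
  have hrr : B r r = -(σ s * t + σ t * s) := by
    simp only [hr, map_sub, map_smul, map_smulₛₗ, LinearMap.sub_apply, LinearMap.smul_apply,
      smul_eq_mul, hw, he, hf, hef, hfe, hwe, hwf, ← htdef, ← hsdef]
    ring
  have hrw : B r w = B r r := by
    have e1 : B r e = 0 := by rw [← herm_symm hF e r, her, map_zero]
    have e2 : B r f = 0 := by rw [← herm_symm hF f r, hfr, map_zero]
    conv_lhs => rw [show w = r + (s • e + t • f) by rw [hr]; abel]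
    rw [map_add, map_add, map_smul, map_smul, e1, e2, smul_zero, smul_zero, add_zero, add_zero]
  set c := -B r r / (t * σ t) - s / t with hc
  have hσrr : σ (B r r) = B r r := herm_symm hF r r
  obtain ⟨A, hA, hy⟩ := (hU ((-t⁻¹) • r) c ⟨he, by rw [map_smul, her, smul_zero], by
    simp only [hc, map_sub, map_div₀, map_neg, map_mul, map_smul, map_smulₛₗ, map_inv₀,
      LinearMap.smul_apply, smul_eq_mul, conjHom_conjHom, hσrr]
    field_simp
    linear_combination -hrr⟩).2
  refine ⟨A, hA, ?_⟩
  rw [hy, eLin_apply, ← htdef, map_smulₛₗ, LinearMap.smul_apply, hrw, hc, map_neg, map_inv₀,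
    smul_eq_mul]
  conv_lhs => arg 1; arg 1; rw [show w = r + (s • e + t • f) by rw [hr]; abel]
  match_scalars <;> field_simp <;> ring

theorem eq_top_of_pair (hn : 3 ≤ n) (h32 : ¬ (n = 3 ∧ q = 2)) {e f : Fin n → F} (he : B e e = 0)
    (hf : B f f = 0) (hef : B e f = 1) (hE : UIn hF H e) (hFf : UIn hF H f) : H = ⊤ := by
  have hfe : B f e = 1 := by rw [← herm_symm hF e f, hef, map_one]
  have orbit : ∀ w, w ≠ 0 → B w w = 0 →
      ∃ k ∈ H, ∃ a : F, a ≠ 0 ∧ (k • w = a • e ∨ k • w = a • f) := by
    intro w hw0 hw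
    by_cases h1 : B e w = 0
    swap
    · obtain ⟨k, hk, hkw⟩ := exists_to_line he hf hef hE hw h1
      exact ⟨k, hk, _, h1, Or.inr hkw⟩
    by_cases h2 : B f w = 0
    swap
    · obtain ⟨k, hk, hkw⟩ := exists_to_line hf he hfe hFf hw h2
      exact ⟨k, hk, _, h2, Or.inl hkw⟩
    obtain ⟨r, hr⟩ : ∃ r, B r w ≠ 0 := by
      by_contra hall
      push Not at hall
      exact hw0 ((hermBilin_nondegenerate hF n).2 w hall)
    set x' := r - B f r • e - B e r • f with hx'
    have hfx : B f x' = 0 := by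
      simp only [hx', map_sub, map_smul, hf, hfe, smul_eq_mul]; ring
    have hxw : B x' w = B r w := by
      simp only [hx', map_sub, map_smulₛₗ, LinearMap.sub_apply, LinearMap.smul_apply, h1, h2,
        smul_zero, sub_zero]
    obtain ⟨c, hc⟩ := exists_add_conj_eq (conjHom_ne_id hF) (conjHom_conjHom hF)
      (s := -B x' x') (by rw [map_neg, herm_symm hF])
    obtain ⟨A, hA, hy⟩ := (hFf x' c ⟨hf, hfx, by linear_combination hc⟩).2
    have hAw : B e (A • w) = -B r w := by
      rw [hy, eLin_apply, h2, hxw]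
      simp [h1, hef]
    obtain ⟨k, hk, hkw⟩ := exists_to_line he hf hef hE (w := A • w) (by rw [smul_herm hF, hw])
      (by rw [hAw]; exact neg_ne_zero.mpr hr)
    exact ⟨k * A, mul_mem hk hA, B e (A • w), by rw [hAw]; exact neg_ne_zero.mpr hr,
      Or.inr (by rw [mul_smul, hkw])⟩
  rw [eq_top_iff, ← Cfsg.Agent.S0780.result hF n hn h32, Subgroup.closure_le]
  rintro A ⟨v, c, hv, hA⟩
  rw [← hermBilin_apply hF] at hv
  have hAy : ∀ y, A • y = y + (c * B v y) • v := fun y => by
    rw [mulVec_eq_smul, hA, Cfsg.unitaryTransvection, Matrix.add_mulVec, Matrix.one_mulVec,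
      Matrix.smul_mulVec, Matrix.vecMulVec_mulVec, dotProduct_comm, op_smul_eq_smul, smul_smul]
    rfl
  rcases eq_or_ne v 0 with rfl | hv0
  · have : A = 1 := su_ext fun y => by rw [hAy, smul_zero, add_zero, one_smul]
    rw [this]; exact one_mem H
  have htr : σ c + c = 0 := by
    obtain ⟨f', hf1, hf2⟩ := exists_partner hF hv0 hv
    have h := smul_herm hF A f' f'
    have hfv : B f' v = 1 := by rw [← herm_symm hF v f', hf1, map_one]
    simp only [hAy, hf1, map_add, map_smul, map_smulₛₗ, LinearMap.add_apply, LinearMap.smul_apply,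
      smul_eq_mul, hv, hf2, hfv, mul_one] at h
    linear_combination h
  obtain ⟨k, hk, a, ha, hkv⟩ := orbit v hv0 hv
  obtain ⟨u, hu, hU⟩ : ∃ u, k • v = a • u ∧ UIn hF H u := by
    rcases hkv with h | h
    · exact ⟨e, h, hE⟩
    · exact ⟨f, h, hFf⟩
  have hv' : v = a • (k⁻¹ • u) := by rw [← smul_comm, ← hu, inv_smul_smul]
  have hU' := hU.conj (inv_mem hk)
  generalize k⁻¹ • u = u' at hv' hU'
  have huu : B u' u' = 0 := by
    have := hv
    rw [hv'] at this
    simpa [map_smulₛₗ, ha] using this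
  refine (hU' 0 (a * σ a * c) ⟨huu, map_zero _, ?_⟩).mem fun y => ?_
  · simp only [map_mul, conjHom_conjHom, map_zero, add_zero]
    linear_combination a * σ a * htr
  · rw [hAy, eLin_apply, hv']
    simp only [map_smulₛₗ, LinearMap.smul_apply, smul_eq_mul, map_zero, LinearMap.zero_apply]
    module

end Cfsg.Agent.Lib.SUTwoGen
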