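import Cfsg.Agent.Lib.SUTwoGen.Core

/-!
Two generators of `SU_n(q)`.
-/

set_option autoImplicit false

namespace Cfsg.Agent.Lib.SUTwoGen

open Cfsg.Agent.Lib.Classical (hermBilin hermBilin_nondegenerate conjHom conjHom_apply conjHom_conjHom
  conjHom_ne_id herm_symm two_le_q)
open Cfsg.Agent.Lib.Geometry (exists_add_conj_eq)

variable {F : Type*} [Field F] [Fintype F] {q n : ℕ} {hF : Fintype.card F = q ^ 2} {k t : ℕ}

set_option quotPrecheck false in
local notation "B" => hermBilin hF n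
set_option quotPrecheck false in
local notation "σ" => conjHom hF

/-- The cycle on a frame. -/
structure IsCycle (Φ : Frame (n := n) hF k t) (g : Cfsg.SU n F q) : Prop where
  hk : 1 ≤ k
  next : ∀ (j : ℕ) (hj : j + 1 < 2 * k), g • Φ.b (.inl ⟨j, by omega⟩) = Φ.b (.inl ⟨j + 1, hj⟩)
  last : g • Φ.b (.inl ⟨2 * k - 1, by omega⟩) = -Φ.b (.inl ⟨0, by omega⟩)
  fixed : ∀ a, g • Φ.b (.inr a) = Φ.b (.inr a)

namespace IsCycle

variable {Φ : Frame (n := n) hF k t} {g : Cfsg.SU n F q} (hc : IsCycle Φ g)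

/-- The `m`-th vector of the cycle. -/
noncomputable def P (hc : IsCycle Φ g) (m : ℕ) : Fin n → F :=
  g ^ m • Φ.b (.inl ⟨0, by have := hc.hk; omega⟩)

theorem P_succ (m : ℕ) : g • hc.P m = hc.P (m + 1) := by
  rw [P, P, pow_succ', mul_smul]

theorem gpow_P (i m : ℕ) : g ^ i • hc.P m = hc.P (m + i) := by
  rw [P, P, ← mul_smul, ← pow_add, add_comm]

theorem P_lt {j : ℕ} (hj : j < 2 * k) : hc.P j = Φ.b (.inl ⟨j, hj⟩) := by
  induction j with
  | zero => rw [P, pow_zero, one_smul]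
  | succ j ih => rw [← P_succ, ih (by omega), hc.next j hj]

theorem P_two : hc.P (2 * k) = -hc.P 0 := by
  have := hc.hk
  have h := hc.P_succ (2 * k - 1)
  rw [hc.P_lt (show 2 * k - 1 < 2 * k by omega), hc.last, show 2 * k - 1 + 1 = 2 * k by omega,
    ← hc.P_lt] at h
  exact h.symm

theorem P_add (m : ℕ) : hc.P (m + 2 * k) = -hc.P m := by
  rw [add_comm, ← hc.gpow_P m (2 * k), P_two, smul_neg, hc.gpow_P, zero_add]

theorem P_mod (m : ℕ) : ∃ s : F, s ≠ 0 ∧ hc.P m = s • hc.P (m % (2 * k)) := by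
  have := hc.hk
  induction m using Nat.strong_induction_on with
  | _ m ih =>
    rcases Nat.lt_or_ge m (2 * k) with h | h
    · exact ⟨1, one_ne_zero, by rw [one_smul, Nat.mod_eq_of_lt h]⟩
    · obtain ⟨s, hs, he⟩ := ih (m - 2 * k) (by omega)
      refine ⟨-s, neg_ne_zero.mpr hs, ?_⟩
      conv_lhs => rw [show m = m - 2 * k + 2 * k by omega, P_add, he]
      rw [neg_smul, ← Nat.mod_eq_sub_mod h]

theorem qP (m : ℕ) : B (hc.P m) (hc.P m) = 0 := by
  have := hc.hk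
  rw [P, smul_herm hF, Φ.hg]
  simp only [gram]
  rw [if_neg (by omega), if_neg (by omega)]

theorem pol0 {m : ℕ} (h : m % (2 * k) ≠ k) : B (hc.P 0) (hc.P m) = 0 := by
  have hk := hc.hk
  obtain ⟨s, -, he⟩ := hc.P_mod m
  have hlt := Nat.mod_lt m (show 2 * k > 0 by omega)
  rw [he, map_smul, hc.P_lt (show 0 < 2 * k by omega), hc.P_lt hlt, Φ.hg]
  simp only [gram]
  rw [if_neg (by omega), if_neg (by omega), smul_zero]

theorem polk : B (hc.P 0) (hc.P k) = Φ.η := by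
  have hk := hc.hk
  rw [hc.P_lt (show 0 < 2 * k by omega), hc.P_lt (show k < 2 * k by omega), Φ.hg]
  simp [gram]

theorem pol_shift (i m : ℕ) : B (hc.P i) (hc.P (i + m)) = B (hc.P 0) (hc.P m) := by
  rw [add_comm i m, ← hc.gpow_P i m]
  conv_lhs => arg 1; arg 2; rw [show hc.P i = g ^ i • hc.P 0 by rw [hc.gpow_P, zero_add]]
  rw [smul_herm hF]

theorem zP (a : Fin t) (m : ℕ) : B (Φ.b (.inr a)) (hc.P m) = 0 := by
  have hk := hc.hk
  obtain ⟨s, -, he⟩ := hc.P_mod m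
  rw [he, map_smul, hc.P_lt (Nat.mod_lt m (by omega)), Φ.hg]
  simp [gram]

include hc in
theorem gz (a : Fin t) (i : ℕ) : g ^ i • Φ.b (.inr a) = Φ.b (.inr a) := by
  induction i with
  | zero => rw [pow_zero, one_smul]
  | succ i ih => rw [pow_succ, mul_smul, hc.fixed, ih]

/-- The last step: from the root group at the first point to everything. -/
theorem eq_top {H : Subgroup (Cfsg.SU n F q)} (hn : 3 ≤ n) (h32 : ¬ (n = 3 ∧ q = 2)) (hgH : g ∈ H)
    (hl : ∀ c : F, σ c + c = 0 → EIn hF H (hc.P 0) 0 c)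
    (hP : ∀ j, j < 2 * k → j ≠ 0 → j ≠ k → ∀ α : F, ∃ C, EIn hF H (hc.P 0) (α • hc.P j) C)
    (hz : ∀ a (α : F), ∃ C, EIn hF H (hc.P 0) (α • Φ.b (.inr a)) C) : H = ⊤ := by
  classical
  have hk := hc.hk
  have hU : UIn hF H (hc.P 0) := by
    refine UIn.of_parts (hc.qP 0) (fun x hx => ?_) hl
    rw [← Φ.b.sum_repr x]
    refine Finset.sum_induction _ (fun y => ∃ c, EIn hF H (hc.P 0) y c)
      (fun u v ⟨_, hu⟩ ⟨_, hv⟩ => ⟨_, hu.mul hv⟩) ⟨0, EIn.one (hc.qP 0)⟩ fun i _ => ?_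
    rcases i with j | a
    swap
    · exact hz a _
    set α := Φ.b.repr x (.inl j) with hα
    rw [← hc.P_lt j.2]
    rcases eq_or_ne j.1 0 with h0 | h0
    · rw [h0]
      refine ⟨σ α - α, ⟨hc.qP 0, by rw [map_smul, hc.qP, smul_zero], ?_⟩, 1, one_mem H, fun y => ?_⟩
      · simp only [map_smul, map_smulₛₗ, LinearMap.smul_apply, hc.qP, smul_zero, map_sub,
          conjHom_conjHom]
        ring
      · simp only [one_smul, eLin_apply, map_smulₛₗ, LinearMap.smul_apply, smul_eq_mul]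
        module
    rcases eq_or_ne j.1 k with hjk | hjk
    · have hzero : α = 0 := by
        rw [← Φ.b.sum_repr x, map_sum, Finset.sum_eq_single (Sum.inl j)] at hx
        · rw [map_smul, ← hc.P_lt j.2, hjk, hc.polk, smul_eq_mul] at hx
          exact (mul_eq_zero.mp hx).resolve_right Φ.hη0
        · rintro (b | b) _ hb
          · rw [map_smul, ← hc.P_lt b.2, hc.pol0, smul_zero]
            rw [Nat.mod_eq_of_lt b.2]
            exact fun e => hb (congrArg Sum.inl (Fin.ext (e.trans hjk.symm)))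
          · rw [map_smul, ← herm_symm hF, hc.zP, map_zero, smul_zero]
        · simp
      exact ⟨0, (EIn.one (hc.qP 0)).congr rfl (by rw [hzero, zero_smul]) rfl⟩
    exact hP j.1 j.2 h0 hjk α
  have hUk : UIn hF H (hc.P k) := by
    have := hU.conj (pow_mem hgH k)
    rwa [hc.gpow_P, zero_add] at this
  have hf : UIn hF H (Φ.η⁻¹ • hc.P k) := by
    refine UIn.of_smul (a := Φ.η) ?_ Φ.hη0
    rwa [smul_smul, mul_inv_cancel₀ Φ.hη0, one_smul]
  refine eq_top_of_pair hn h32 (hc.qP 0) ?_ ?_ hU hf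
  · simp [map_smulₛₗ, hc.qP]
  · rw [map_smul, hc.polk, smul_eq_mul, inv_mul_cancel₀ Φ.hη0]

/-- The torus element and its shift. -/
theorem diag_shift {h : Cfsg.SU n F q} {ε : ℕ → F} {z : F}
    (hP : ∀ j, j < 2 * k → h • hc.P j = ε j • hc.P j)
    (hz : ∀ a, h • Φ.b (.inr a) = z • Φ.b (.inr a)) :
    (g * h * g⁻¹) • hc.P 0 = ε (2 * k - 1) • hc.P 0 ∧
    (∀ j, j + 1 < 2 * k → (g * h * g⁻¹) • hc.P (j + 1) = ε j • hc.P (j + 1)) ∧
    (∀ a, (g * h * g⁻¹) • Φ.b (.inr a) = z • Φ.b (.inr a)) ∧ Commute h (g * h * g⁻¹) := by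
  have hk := hc.hk
  have act : ∀ (v : Fin n → F) (e : F), h • v = e • v → (g * h * g⁻¹) • (g • v) = e • (g • v) := by
    intro v e hv
    rw [mul_smul, mul_smul, inv_smul_smul, hv, smul_comm]
  have p0 : (g * h * g⁻¹) • hc.P 0 = ε (2 * k - 1) • hc.P 0 := by
    have := act _ _ (hP (2 * k - 1) (by omega))
    rw [hc.P_succ, show 2 * k - 1 + 1 = 2 * k by omega, hc.P_two, smul_neg, smul_neg, neg_inj] at this
    exact this
  have p1 : ∀ j, j + 1 < 2 * k → (g * h * g⁻¹) • hc.P (j + 1) = ε j • hc.P (j + 1) := fun j hj => by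
    have := act _ _ (hP j (by omega))
    rwa [hc.P_succ] at this
  have pz : ∀ a, (g * h * g⁻¹) • Φ.b (.inr a) = z • Φ.b (.inr a) := fun a => by
    have := act _ _ (hz a)
    rwa [hc.fixed] at this
  refine ⟨p0, p1, pz, su_ext_basis Φ fun i => ?_⟩
  rw [mul_smul h, mul_smul (g * h * g⁻¹) h]
  rcases i with j | a
  · have hj := j.2
    rw [← hc.P_lt j.2]
    obtain ⟨e, he⟩ : ∃ e : F, (g * h * g⁻¹) • hc.P j.1 = e • hc.P j.1 := by
      rcases Nat.eq_zero_or_pos j.1 with h0 | h0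
      · rw [h0]; exact ⟨_, p0⟩
      · rw [show j.1 = j.1 - 1 + 1 by omega]; exact ⟨_, p1 _ (by omega)⟩
    rw [he, hP _ j.2, smul_comm h, smul_comm (g * h * g⁻¹), he, hP _ j.2, smul_comm]
  · rw [pz, hz, smul_comm h, smul_comm (g * h * g⁻¹), pz, hz, smul_comm]

end IsCycle

theorem exists_gen (hF : Fintype.card F = q ^ 2) :
    ∃ μ : Fˣ, ∀ m : ℕ, μ ^ m = 1 ↔ q ^ 2 - 1 ∣ m := by
  obtain ⟨μ, hμ⟩ := IsCyclic.exists_generator (α := Fˣ)
  refine ⟨μ, fun m => ?_⟩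
  rw [← orderOf_dvd_iff_pow_eq_one, orderOf_eq_card_of_forall_mem_zpowers hμ, Nat.card_units,
    Nat.card_eq_fintype_card, hF]

theorem sq_sub_one (q : ℕ) : q ^ 2 - 1 = (q + 1) * (q - 1) := by
  rw [← Nat.sq_sub_sq, one_pow]

theorem gen_powers (hq : 2 ≤ q) {μ : Fˣ} (hμ : ∀ m : ℕ, μ ^ m = 1 ↔ q ^ 2 - 1 ∣ m) :
    (μ : F) ≠ 1 ∧ (μ : F) * μ ≠ 1 ∧
      ∀ m, 0 < m → m < q → ((μ : F) ^ q) ^ m ≠ 1 ∧ ((μ : F) ^ q * (μ : F)⁻¹) ^ m ≠ 1 := by
  have h1 : ∀ e : ℕ, (μ : F) ^ e = 1 → q ^ 2 - 1 ∣ e := fun e he =>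
    (hμ e).mp (Units.ext (by rw [Units.val_pow_eq_pow_val, he, Units.val_one]))
  have h4 : 4 ≤ q ^ 2 := by nlinarith
  refine ⟨fun h => ?_, fun h => ?_, fun m hm hmq => ⟨fun h => ?_, fun h => ?_⟩⟩
  · have := Nat.le_of_dvd one_pos (h1 1 (by rw [pow_one, h]))
    omega
  · have := Nat.le_of_dvd two_pos (h1 2 (by rw [pow_two, h]))
    omega
  · rw [← pow_mul] at h
    have hd := (h1 _ h).mul_left q
    rw [← mul_assoc, ← pow_two] at hd
    have hd' : q ^ 2 - 1 ∣ m := by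
      have e : q ^ 2 * m = (q ^ 2 - 1) * m + m := by
        conv_lhs => rw [show q ^ 2 = q ^ 2 - 1 + 1 by omega, add_mul, one_mul]
      rw [e] at hd
      exact (Nat.dvd_add_right (dvd_mul_right _ _)).mp hd
    have := Nat.le_of_dvd hm hd'
    have : q * 2 ≤ q ^ 2 := by nlinarith
    omega
  · rw [show (μ : F) ^ q * (μ : F)⁻¹ = (μ : F) ^ (q - 1) by
      rw [pow_sub₀ _ μ.ne_zero (by omega), pow_one], ← pow_mul] at h
    have hd := h1 _ h
    rw [sq_sub_one, mul_comm (q + 1)] at hd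
    have := Nat.le_of_dvd hm (Nat.dvd_of_mul_dvd_mul_left (by omega) hd)
    omega

theorem gen_powers_three (hq : 3 ≤ q) {μ : Fˣ} (hμ : ∀ m : ℕ, μ ^ m = 1 ↔ q ^ 2 - 1 ∣ m) :
    (μ : F)⁻¹ * ((μ : F) ^ q / μ) ≠ 1 ∧
      ∀ m, 0 < m → m < q → ((μ : F) ^ q * ((μ : F) ^ q / μ)) ^ m ≠ 1 := by
  have h1 : ∀ e : ℕ, (μ : F) ^ e = 1 → q ^ 2 - 1 ∣ e := fun e he =>
    (hμ e).mp (Units.ext (by rw [Units.val_pow_eq_pow_val, he, Units.val_one]))
  have h9 : q * 3 ≤ q ^ 2 := by nlinarith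
  refine ⟨fun h => ?_, fun m hm hmq h => ?_⟩
  · rw [show (μ : F)⁻¹ * ((μ : F) ^ q / μ) = (μ : F) ^ (q - 2) by
      rw [pow_sub₀ _ μ.ne_zero (by omega)]; field_simp] at h
    have := Nat.le_of_dvd (by omega) (h1 _ h)
    omega
  · rw [show (μ : F) ^ q * ((μ : F) ^ q / μ) = (μ : F) ^ (2 * q - 1) by
      rw [pow_sub₀ _ μ.ne_zero (by omega), two_mul, pow_add, pow_one]; field_simp, ← pow_mul] at h
    have hd := (h1 _ h).mul_left (2 * q + 1)
    have e : (2 * q + 1) * ((2 * q - 1) * m) = (q ^ 2 - 1) * (4 * m) + 3 * m := by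
      obtain ⟨p, rfl⟩ : ∃ p, q = p + 1 := ⟨q - 1, by omega⟩
      rw [show 2 * (p + 1) - 1 = 2 * p + 1 by omega,
        show (p + 1) ^ 2 - 1 = p * p + 2 * p by ring_nf; omega]
      ring
    rw [e] at hd
    have := Nat.le_of_dvd (by omega) ((Nat.dvd_add_right (dvd_mul_right _ _)).mp hd)
    omega

variable (hF) in
include hF in
/-- Odd dimension. -/
theorem two_gen_odd (hk : 1 ≤ k) (hn : n = 2 * k + 1)
    (h32 : ¬ (n = 3 ∧ q = 2)) :
    ∃ a b : Cfsg.SU n F q, Subgroup.closure {a, b} = ⊤ := by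
  classical
  obtain ⟨Φ⟩ := exists_frame hF (t := 1) hn le_rfl
  obtain ⟨g, gn, gl, gf⟩ := exists_cycle Φ hk
  have hc : IsCycle Φ g := ⟨hk, gn, gl, gf⟩
  obtain ⟨μ, hμ⟩ := exists_gen hF
  have hq := two_le_q hF
  obtain ⟨p1, -, p3⟩ := gen_powers hq hμ
  have hμ0 : (μ : F) ≠ 0 := μ.ne_zero
  have hσμ : σ (μ : F) = (μ : F) ^ q := conjHom_apply hF _
  have hσμ0 : σ (μ : F) ≠ 0 := (map_ne_zero_iff _ (RingHom.injective _)).mpr hμ0
  -- the torus
  obtain ⟨a, ha, z, hz, hdet, hτ', hord⟩ : ∃ a : ℕ → F, (∀ i, a i ≠ 0) ∧ ∃ z : F, σ z * z = 1 ∧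
      (∏ i ∈ Finset.range k, a i / σ (a i)) * z ^ 1 = 1 ∧ (a (k - 1))⁻¹ * z ≠ 1 ∧
      ∀ m, 0 < m → m < q → (σ (a 0) * z) ^ m ≠ 1 := by
    rcases eq_or_ne k 1 with hk1 | hk1
    · have hq3 : 3 ≤ q := by
        by_contra hlt
        exact h32 ⟨by omega, by omega⟩
      obtain ⟨t1, t2⟩ := gen_powers_three hq3 hμ
      refine ⟨fun _ => (μ : F), fun _ => hμ0, σ (μ : F) / μ, ?_, ?_, ?_, ?_⟩
      · rw [map_div₀, conjHom_conjHom]; field_simp
      · rw [hk1, Finset.prod_range_one, pow_one]; field_simp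
      · rwa [hσμ]
      · simpa only [hσμ] using t2
    · refine ⟨fun i => if i = 0 then (μ : F) else if i = k - 1 then (μ : F)⁻¹ else 1, fun i => ?_, 1,
        by rw [map_one, one_mul], ?_, ?_, ?_⟩
      · dsimp only; split_ifs <;> simp [hμ0]
      · rw [one_pow, mul_one, Finset.prod_eq_mul_of_mem 0 (k - 1) (Finset.mem_range.mpr (by omega))
          (Finset.mem_range.mpr (by omega)) (by omega)]
        · dsimp only
          rw [if_pos rfl, if_neg (by omega), if_pos rfl, map_inv₀]; field_simp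
        · intro c _ hne
          dsimp only
          rw [if_neg hne.1, if_neg hne.2, map_one, div_one]
      · dsimp only
        rw [if_neg (by omega), if_pos rfl, inv_inv, mul_one]; exact p1
      · simp only [if_true, mul_one, hσμ]
        exact fun m hm hmq => (p3 m hm hmq).1
  obtain ⟨h, hh, hhz⟩ := exists_diag Φ a ha z hz hdet
  set ε : ℕ → F := fun j => if j < k then a j else (σ (a (j - k)))⁻¹ with hε
  have hhP : ∀ j, j < 2 * k → h • hc.P j = ε j • hc.P j := fun j hj => by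
    rw [hc.P_lt hj]; exact hh ⟨j, hj⟩
  obtain ⟨d0, -, dz, dcomm⟩ := hc.diag_shift hhP hhz
  set v := Φ.b (.inr 0) with hv
  have hvv : B v v = 1 := by rw [hv, Φ.hg, gram, if_pos rfl]
  obtain ⟨c₀, hc₀⟩ := exists_add_conj_eq (conjHom_ne_id hF) (conjHom_conjHom hF) (s := (-1 : F))
    (by rw [map_neg, map_one])
  have hgood : Good hF (hc.P 0) v c₀ := ⟨hc.qP 0,
    by rw [← herm_symm hF, hc.zP, map_zero], by rw [hvv]; linear_combination hc₀⟩
  obtain ⟨x, hx⟩ := exists_eU hF hgood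
  refine ⟨h, x * g, ?_⟩
  set H := Subgroup.closure {h, x * g} with hH
  have hhH : h ∈ H := Subgroup.subset_closure (by simp)
  have hxgH : x * g ∈ H := Subgroup.subset_closure (by simp)
  have hε0 : ε 0 = a 0 := by simp [hε, show 0 < k by omega]
  have hεl : ε (2 * k - 1) = (σ (a (k - 1)))⁻¹ := by
    simp only [hε]
    rw [if_neg (by omega), show 2 * k - 1 - k = k - 1 by omega]
  have hzne : z ≠ 0 := fun e => by
    rw [e, mul_zero] at hz
    exact zero_ne_one hz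
  have hline : ∀ α : F, ∃ C, EIn hF H (hc.P 0) (α • v) C := fun α => by
    obtain ⟨C, -, hC⟩ := core (μ := a 0) (ν := z) (μ' := (σ (a (k - 1)))⁻¹) (ν' := z)
      ⟨hgood, hx⟩ hhH hxgH (ha 0) hzne
      (inv_ne_zero ((map_ne_zero_iff _ (RingHom.injective _)).mpr (ha _)))
      (by rw [hhP 0 (by omega), hε0]) (hhz 0) (by rw [d0, hεl]) (dz 0) dcomm
      (by rw [map_inv₀, conjHom_conjHom]; exact hτ') hord α
    exact ⟨C, hC⟩
  obtain ⟨C1, hC1⟩ := hline 1
  rw [one_smul] at hC1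
  have hl := long_of_pair hline hC1 (by rw [hvv]; exact one_ne_zero)
  have hxH : x ∈ H := by
    refine ((hC1.mul (hl (c₀ - C1) ?_)).congr rfl (add_zero v) ?_).mem hx
    · rw [map_sub]; linear_combination hgood.tr - hC1.1.tr
    · rw [map_zero]; ring
  have hgH : g ∈ H := by simpa using H.mul_mem (H.inv_mem hxH) hxgH
  refine hc.eq_top (by omega) h32 hgH hl (fun j hj _ hjk α => ?_) (fun b β => ?_)
  · obtain ⟨A, hA, hE⟩ := hC1.of_isE
    have he := hE.conj (g ^ j)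
    rw [hc.gpow_P, zero_add, hc.gz 0 j] at he
    have hAH := H.mul_mem (H.mul_mem (pow_mem hgH j) hA) (H.inv_mem (pow_mem hgH j))
    set A' := g ^ j * A * (g ^ j)⁻¹ with hA'
    have hjv : B (hc.P j) v = 0 := by rw [← herm_symm hF, hc.zP, map_zero]
    have hj0 : B (hc.P j) (hc.P 0) = 0 := by
      rw [← herm_symm hF, hc.pol0 (by rw [Nat.mod_eq_of_lt hj]; exact hjk), map_zero]
    have hfix : A' • hc.P 0 = hc.P 0 := by
      rw [he.2, eLin_apply, hj0, hc.zP]; simp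
    obtain ⟨D, hD⟩ := hline (-α)
    have h' := (hD.conj hAH).congr hfix (x'' := (-α) • v + α • hc.P j) (c'' := D) (by
      rw [he.2, eLin_apply, map_smul, map_smul, hjv, hvv]
      simp only [smul_zero, mul_zero, zero_smul, add_zero, smul_eq_mul]
      module) rfl
    exact ⟨_, (h'.mul hD.inv).congr rfl (by module) rfl⟩
  · rw [Subsingleton.elim b 0]; exact hline β

end Cfsg.Agent.Lib.SUTwoGen
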