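import Cfsg.Agent.Lib.SUTwoGen.Frame

/-!
Recovering a root group from a torus element and a root element times a cycle.
-/

set_option autoImplicit false

namespace Cfsg.Agent.Lib.SUTwoGen

open Cfsg.Agent.Lib.Classical (hermBilin hermBilin_nondegenerate conjHom conjHom_apply conjHom_conjHom
  conjHom_ne_id herm_symm two_le_q)
open Cfsg.Agent.Lib.Geometry (exists_add_conj_eq)

variable {F : Type*} [Field F] [Fintype F] {q n : ℕ} {hF : Fintype.card F = q ^ 2}

set_option quotPrecheck false in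
local notation "B" => hermBilin hF n
set_option quotPrecheck false in
local notation "σ" => conjHom hF

include hF in
/-- An additive subgroup stable under an element of large order is everything. -/
theorem addSubgroup_eq_top (S : AddSubgroup F) {γ : F} (hγ0 : γ ≠ 0) (hγ : γ ∈ S) {τ : F}
    (hτ0 : τ ≠ 0) (hτ : ∀ a ∈ S, τ * a ∈ S) (hord : ∀ m, 0 < m → m < q → τ ^ m ≠ 1) (a : F) :
    a ∈ S := by
  classical
  let R : Subfield F :=
    { carrier := {α | ∀ a ∈ S, α * a ∈ S}
      mul_mem' := fun {x y} hx hy a ha => by rw [mul_assoc]; exact hx _ (hy a ha)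
      one_mem' := fun a ha => by rwa [one_mul]
      add_mem' := fun {x y} hx hy a ha => by rw [add_mul]; exact S.add_mem (hx a ha) (hy a ha)
      zero_mem' := fun a _ => by rw [zero_mul]; exact S.zero_mem
      neg_mem' := fun {x} hx a ha => by rw [neg_mul]; exact S.neg_mem (hx a ha)
      inv_mem' := fun x hx => by
        rcases eq_or_ne x 0 with rfl | h0
        · simpa using fun (a : F) (_ : a ∈ S) => S.zero_mem
        have h1 := FiniteField.pow_card_sub_one_eq_one x h0
        have hc := Fintype.one_lt_card (α := F)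
        have hinv : x⁻¹ = x ^ (Fintype.card F - 2) := by
          refine (eq_inv_of_mul_eq_one_left ?_).symm
          rw [← pow_succ, show Fintype.card F - 2 + 1 = Fintype.card F - 1 by omega, h1]
        rw [hinv]
        generalize Fintype.card F - 2 = N
        induction N with
        | zero => intro a ha; rwa [pow_zero, one_mul]
        | succ N ih => intro a ha; rw [pow_succ, mul_assoc]; exact ih _ (hx a ha) }
  have hτR : τ ∈ R := hτ
  by_cases htop : ∀ x : F, x ∈ R
  · have := htop (a / γ) γ hγ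
    rwa [div_mul_cancel₀ _ hγ0] at this
  exfalso
  obtain ⟨x, hx⟩ := not_forall.mp htop
  haveI : Fintype R := Fintype.ofFinite R
  have hcard := Module.card_eq_pow_finrank (K := R) (V := F)
  rw [hF] at hcard
  have hR1 : 1 < Fintype.card R := Fintype.one_lt_card
  have hd : Module.finrank R F ≠ 1 := by
    intro h1
    rw [h1, pow_one] at hcard
    have : (Subtype.val : R → F).Bijective := by
      rw [Fintype.bijective_iff_injective_and_card]
      exact ⟨Subtype.val_injective, by rw [← hcard, hF]⟩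
    obtain ⟨y, hy⟩ := this.2 x
    exact hx (hy ▸ y.2)
  have hd0 : Module.finrank R F ≠ 0 := by
    intro h0
    rw [h0, pow_zero] at hcard
    have := two_le_q hF
    nlinarith
  have hle : Fintype.card R ≤ q := by
    by_contra hlt
    push Not at hlt
    have := Nat.pow_le_pow_right (show 0 < Fintype.card R by omega) (show 2 ≤ Module.finrank R F by omega)
    rw [← hcard] at this
    have : q ^ 2 < Fintype.card R ^ 2 := Nat.pow_lt_pow_left hlt two_ne_zero
    omega
  refine hord (Fintype.card R - 1) (by omega) (by omega) ?_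
  have := FiniteField.pow_card_sub_one_eq_one (⟨τ, hτR⟩ : R) (fun h => hτ0 (congrArg Subtype.val h))
  exact congrArg Subtype.val this

/-- `A` is the root element with these parameters. -/
def IsE (hF : Fintype.card F = q ^ 2) (A : Cfsg.SU n F q) (u x : Fin n → F) (c : F) : Prop :=
  Good hF u x c ∧ ∀ y, A • y = eLin hF u x c y

variable {A A' : Cfsg.SU n F q} {u x x' : Fin n → F} {c c' : F}

theorem IsE.congr (h : IsE hF A u x c) {u' : Fin n → F} {c'' : F} {x'' : Fin n → F} (e1 : u = u')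
    (e2 : x = x'') (e3 : c = c'') : IsE hF A u' x'' c'' := by
  subst e1 e2 e3; exact h

theorem IsE.eIn (h : IsE hF A u x c) {H : Subgroup (Cfsg.SU n F q)} (hA : A ∈ H) :
    EIn hF H u x c := ⟨h.1, A, hA, h.2⟩

theorem EIn.of_isE {H : Subgroup (Cfsg.SU n F q)} (h : EIn hF H u x c) : ∃ A ∈ H, IsE hF A u x c := by
  obtain ⟨g, A, hA, hy⟩ := h
  exact ⟨A, hA, g, hy⟩

theorem IsE.mul (h : IsE hF A u x c) (h' : IsE hF A' u x' c') :
    IsE hF (A * A') u (x + x') (c + c' - B x x') := by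
  refine ⟨⟨h.1.uu, by rw [map_add, h.1.ux, h'.1.ux, add_zero], ?_⟩, fun y => ?_⟩
  · simp only [map_add, map_sub, LinearMap.add_apply, herm_symm hF x x']
    linear_combination h.1.tr + h'.1.tr
  · rw [mul_smul, h'.2, h.2, eLin_comp hF c c' h.1.uu h.1.ux h'.1.ux]

theorem IsE.inv (h : IsE hF A u x c) : IsE hF A⁻¹ u (-x) (σ c) := by
  have hux : B u (-x) = 0 := by rw [map_neg, h.1.ux, neg_zero]
  refine ⟨⟨h.1.uu, hux, ?_⟩, fun y => ?_⟩
  · simp only [conjHom_conjHom, map_neg, LinearMap.neg_apply, neg_neg]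
    linear_combination h.1.tr
  · rw [inv_smul_eq_iff, h.2, eLin_comp hF c _ h.1.uu h.1.ux hux, add_neg_cancel, map_neg, sub_neg_eq_add]
    have : c + σ c + B x x = 0 := by linear_combination h.1.tr
    rw [this, eLin_zero]

theorem IsE.conj (h : IsE hF A u x c) (k : Cfsg.SU n F q) :
    IsE hF (k * A * k⁻¹) (k • u) (k • x) c := by
  refine ⟨⟨by rw [smul_herm hF, h.1.uu], by rw [smul_herm hF, h.1.ux],
    by rw [smul_herm hF]; exact h.1.tr⟩, fun y => ?_⟩
  rw [mul_smul, mul_smul, h.2, eLin_conj hF, smul_inv_smul]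

theorem IsE.unscale {a : F} (h : IsE hF A (a • u) x c) (ha : a ≠ 0) :
    IsE hF A u (σ a • x) (a * σ a * c) := by
  have hσa : σ a ≠ 0 := (map_ne_zero_iff _ (RingHom.injective _)).mpr ha
  have huu : B u u = 0 := by simpa [map_smulₛₗ, ha, hσa] using h.1.uu
  have hux : B u x = 0 := by simpa [map_smulₛₗ, ha, hσa] using h.1.ux
  refine ⟨⟨huu, by rw [map_smul, hux, smul_zero], ?_⟩, fun y => (h.2 y).trans ?_⟩
  · simp only [map_mul, map_smul, map_smulₛₗ, LinearMap.smul_apply, smul_eq_mul, conjHom_conjHom]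
    linear_combination a * σ a * h.1.tr
  · exact eLin_smul_left hF a u x c y

/-- From `⟨h, x g⟩` the whole line of root elements through `x`. -/
theorem core {e₀ a : Fin n → F} {c₀ : F} {h g x : Cfsg.SU n F q}
    (hx : IsE hF x e₀ a c₀) {H : Subgroup (Cfsg.SU n F q)} (hhH : h ∈ H) (hxgH : x * g ∈ H)
    {μ ν μ' ν' : F} (hμ : μ ≠ 0) (hν : ν ≠ 0) (hμ' : μ' ≠ 0)
    (h1 : h • e₀ = μ • e₀) (h2 : h • a = ν • a)
    (h3 : (g * h * g⁻¹) • e₀ = μ' • e₀) (h4 : (g * h * g⁻¹) • a = ν' • a)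
    (hcomm : Commute h (g * h * g⁻¹))
    (hτ' : σ μ' * ν' ≠ 1) (hord : ∀ m, 0 < m → m < q → (σ μ * ν) ^ m ≠ 1) (α : F) :
    ∃ C, (B a a = 0 → c₀ = 0 → C = 0) ∧ EIn hF H e₀ (α • a) C := by
  set h' := g * h * g⁻¹ with hh'
  set τ := σ μ * ν with hτ
  set τ' := σ μ' * ν' with hτ'def
  have hσμ : σ μ ≠ 0 := (map_ne_zero_iff _ (RingHom.injective _)).mpr hμ
  have hτ0 : τ ≠ 0 := mul_ne_zero hσμ hν
  set x₁ := h * x * h⁻¹ with hx₁
  have hx1 : IsE hF x₁ e₀ (τ • a) (μ * σ μ * c₀) := by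
    have := hx.conj h
    rw [h1] at this
    exact (this.unscale hμ).congr rfl (by rw [h2, smul_smul]) rfl
  have hmid := (hx1.inv.mul hx).conj h'
  rw [h3] at hmid
  have hmid' := hmid.unscale hμ'
  have hp := (hx1.mul hmid').mul hx.inv
  have hpeq : x₁ * (h' * (x₁⁻¹ * x) * h'⁻¹) * x⁻¹ = h * (x * h' * x⁻¹) * h⁻¹ * (x * h' * x⁻¹)⁻¹ := by
    have e : h' = h⁻¹ * h' * h := by rw [mul_assoc, ← hcomm.eq, inv_mul_cancel_left]
    conv_rhs => arg 1; rw [e]
    rw [hx₁]
    group
  have hbH : x * h' * x⁻¹ ∈ H := by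
    rw [show x * h' * x⁻¹ = x * g * h * (x * g)⁻¹ by rw [hh']; group]
    exact H.mul_mem (H.mul_mem hxgH hhH) (H.inv_mem hxgH)
  have hpH : x₁ * (h' * (x₁⁻¹ * x) * h'⁻¹) * x⁻¹ ∈ H := by
    rw [hpeq]
    exact H.mul_mem (H.mul_mem (H.mul_mem hhH hbH) (H.inv_mem hhH)) (H.inv_mem hbH)
  let S : AddSubgroup F :=
    { carrier := {α | ∃ C, (B a a = 0 → c₀ = 0 → C = 0) ∧ EIn hF H e₀ (α • a) C}
      add_mem' := by
        rintro u v ⟨C, hC, hu⟩ ⟨D, hD, hv⟩
        refine ⟨_, fun z1 z2 => ?_, (hu.mul hv).congr rfl (add_smul u v a).symm rfl⟩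
        simp [hC z1 z2, hD z1 z2, map_smul, map_smulₛₗ, z1]
      zero_mem' := ⟨0, fun _ _ => rfl, (EIn.one hx.1.uu).congr rfl (zero_smul F a).symm rfl⟩
      neg_mem' := by
        rintro u ⟨C, hC, hu⟩
        exact ⟨σ C, fun z1 z2 => by rw [hC z1 z2, map_zero],
          hu.inv.congr rfl (neg_smul u a).symm rfl⟩ }
  have hτS : ∀ u ∈ S, τ * u ∈ S := by
    rintro u ⟨C, hC, hu⟩
    obtain ⟨A, hA, hE⟩ := hu.of_isE
    have := hE.conj h
    rw [h1] at this
    refine ⟨μ * σ μ * C, fun z1 z2 => by rw [hC z1 z2, mul_zero],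
      ((this.unscale hμ).eIn (H.mul_mem (H.mul_mem hhH hA) (H.inv_mem hhH))).congr rfl ?_ rfl⟩
    rw [smul_comm h, h2, smul_smul, smul_smul, hτ]
    congr 1
    ring
  have hγ : (τ - 1) * (1 - τ') ∈ S := by
    refine ⟨_, fun z1 z2 => ?_, (hp.eIn hpH).congr rfl ?_ rfl⟩
    · subst z2
      simp [smul_add, smul_comm h', h4, map_smul, map_smulₛₗ, z1]
    · rw [smul_add, smul_neg, smul_comm h', h4, hτ'def]
      module
  exact addSubgroup_eq_top (hF := hF) S
    (mul_ne_zero (sub_ne_zero.mpr (by simpa using hord 1 one_pos (two_le_q hF)))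
      (sub_ne_zero.mpr hτ'.symm)) hγ hτ0 hτS hord α

/-- All long root elements from two lines that are not perpendicular. -/
theorem long_of_pair {H : Subgroup (Cfsg.SU n F q)} {e₀ a a' : Fin n → F}
    (ha : ∀ α : F, ∃ C, EIn hF H e₀ (α • a) C) {C' : F} (ha' : EIn hF H e₀ a' C')
    (hne : B a' a ≠ 0) (c : F) (hc : σ c + c = 0) : EIn hF H e₀ 0 c := by
  obtain ⟨ρ, hρ⟩ := exists_add_conj_eq (conjHom_ne_id hF) (conjHom_conjHom hF) (map_one σ)
  set α := c * ρ / B a' a with hα
  obtain ⟨C, hC⟩ := ha α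
  refine (((hC.mul ha').mul hC.inv).mul ha'.inv).congr rfl (by abel) ?_
  have hw : B a' (α • a) = c * ρ := by rw [map_smul, smul_eq_mul, hα, div_mul_cancel₀ _ hne]
  have hw' : B (α • a) a' = σ (c * ρ) := by rw [← hw, herm_symm hF]
  simp only [map_neg, map_add, LinearMap.add_apply, hw, hw', LinearMap.neg_apply]
  rw [map_mul]
  linear_combination hC.1.tr + ha'.1.tr - σ ρ * hc + c * hρ

end Cfsg.Agent.Lib.SUTwoGen
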