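import Cfsg.Agent.Lib.SUTwoGen.Cases

/-!
Two generators of `SU_{2k}(q)`.
-/

set_option autoImplicit false

namespace Cfsg.Agent.Lib.SUTwoGen

open Cfsg.Agent.Lib.Classical (hermBilin conjHom conjHom_apply conjHom_conjHom herm_symm two_le_q)

variable {F : Type*} [Field F] [Fintype F] {q n : ℕ} {hF : Fintype.card F = q ^ 2} {k : ℕ}

set_option quotPrecheck false in
local notation "B" => hermBilin hF n
set_option quotPrecheck false in
local notation "σ" => conjHom hF

/-- Multiples of a unit modulo `2k` below `k` avoid `0` and `k`. -/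
theorem mult_avoid {g₀ : ℕ} (hg : g₀.Coprime (2 * k)) {M : ℕ} (hM : 0 < M) (hMk : M < k) :
    M * g₀ % (2 * k) ≠ 0 ∧ M * g₀ % (2 * k) ≠ k := by
  refine ⟨fun h => ?_, fun h => ?_⟩
  · have := Nat.le_of_dvd hM ((hg.symm).dvd_of_dvd_mul_right (Nat.dvd_of_mod_eq_zero h))
    omega
  · have h2 : 2 * M * g₀ % (2 * k) = 0 := by
      rw [mul_assoc, Nat.mul_mod, h]
      rcases Nat.lt_or_ge 2 (2 * k) with h' | h'
      · rw [Nat.mod_eq_of_lt h', Nat.mod_self]
      · omega
    have := (hg.symm).dvd_of_dvd_mul_right (Nat.dvd_of_mod_eq_zero h2)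
    rw [Nat.mul_dvd_mul_iff_left two_pos] at this
    have := Nat.le_of_dvd hM this
    omega

namespace IsCycle

variable {t : ℕ} {Φ : Frame (n := n) hF k t} {g : Cfsg.SU n F q} (hc : IsCycle Φ g)
  {H : Subgroup (Cfsg.SU n F q)}

/-- All isotropic multiples of the `m`-th point. -/
def All0 (H : Subgroup (Cfsg.SU n F q)) (m : ℕ) : Prop :=
  ∀ α : F, EIn hF H (hc.P 0) (α • hc.P m) 0

theorem all0_mod {m : ℕ} (h : hc.All0 H m) : hc.All0 H (m % (2 * k)) := fun α => by
  obtain ⟨s, hs, he⟩ := hc.P_mod m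
  refine (h (α / s)).congr rfl ?_ rfl
  rw [he, smul_smul, div_mul_cancel₀ _ hs]

theorem all0_step (hgH : g ∈ H) {l r : ℕ} (hr : 0 < r) (hrk : r < k) (hL : hc.All0 H l)
    (hR : hc.All0 H r) (hl : l % (2 * k) ≠ 0) (ht : (l + k + r) % (2 * k) ≠ k) :
    hc.All0 H (l + k + r) := by
  intro δ
  have hk := hc.hk
  obtain ⟨A, hA, hE⟩ := (hR (δ / -Φ.η)).of_isE
  have he := hE.conj (g ^ (l + k))
  rw [hc.gpow_P, zero_add, smul_comm (g ^ (l + k)), hc.gpow_P, show r + (l + k) = l + k + r by omega] at he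
  have hAH := H.mul_mem (H.mul_mem (pow_mem hgH (l + k)) hA) (H.inv_mem (pow_mem hgH (l + k)))
  have hj0 : B (hc.P (l + k)) (hc.P 0) = 0 := by
    rw [← herm_symm hF, hc.pol0, map_zero]
    intro h
    rw [Nat.add_mod, Nat.mod_eq_of_lt (show k < 2 * k by omega)] at h
    have := Nat.mod_lt l (show 2 * k > 0 by omega)
    rcases Nat.lt_or_ge (l % (2 * k)) k with h' | h'
    · rw [Nat.mod_eq_of_lt (by omega)] at h; omega
    · rw [Nat.mod_eq_sub_mod (by omega), Nat.mod_eq_of_lt (by omega)] at h; omega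
  have hy0 : B (hc.P (l + k + r)) (hc.P 0) = 0 := by rw [← herm_symm hF, hc.pol0 ht, map_zero]
  have hjl : B (hc.P (l + k)) (hc.P l) = -Φ.η := by
    rw [← herm_symm hF, hc.pol_shift, hc.polk, Φ.hη]
  have hyl : B (hc.P (l + k + r)) (hc.P l) = 0 := by
    rw [← herm_symm hF, add_assoc, hc.pol_shift, hc.pol0, map_zero]
    rw [Nat.mod_eq_of_lt (by omega)]; omega
  have hly : B (hc.P l) (hc.P (l + k + r)) = 0 := by rw [← herm_symm hF, hyl, map_zero]
  have hfix := he.2 (hc.P 0)
  rw [eLin_apply, hj0, map_smulₛₗ, LinearMap.smul_apply, hy0] at hfix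
  simp only [zero_smul, smul_zero, mul_zero, sub_zero, add_zero] at hfix
  have hval := he.2 (hc.P l)
  rw [eLin_apply, map_smulₛₗ, LinearMap.smul_apply, hjl, hyl] at hval
  simp only [smul_zero, zero_mul, sub_zero, zero_smul, add_zero] at hval
  rw [smul_smul, mul_div_cancel₀ _ (neg_ne_zero.mpr Φ.hη0)] at hval
  have h1 := (hL 1).conj hAH
  rw [hfix, one_smul, hval] at h1
  refine (h1.mul ((hL 1).inv)).congr rfl ?_ ?_
  · rw [one_smul]; abel
  · simp [map_smulₛₗ, hc.qP, hly, ← herm_symm hF (hc.P l) (hc.P (l + k + r))]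

theorem all0_mirror (hgH : g ∈ H) {d : ℕ} (hd : d ≤ 2 * k) (hdk : d % (2 * k) ≠ k)
    (h : hc.All0 H d) : hc.All0 H (2 * k - d) := by
  intro α
  obtain ⟨-, A, hA, hy⟩ := h (σ α)
  have hd0 : B (hc.P d) (hc.P 0) = 0 := by rw [← herm_symm hF, hc.pol0 hdk, map_zero]
  have hE : EIn hF H (hc.P d) ((-α) • hc.P 0) 0 := by
    refine ⟨⟨hc.qP d, by rw [map_smul, hd0, smul_zero], by simp [map_smulₛₗ, hc.qP]⟩, A, hA,
      fun y => (hy y).trans ?_⟩
    simp only [eLin_apply, map_smulₛₗ, LinearMap.smul_apply, smul_eq_mul, conjHom_conjHom, map_neg,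
      zero_mul, zero_sub]
    module
  have := hE.conj (pow_mem hgH (2 * k - d))
  rw [hc.gpow_P, smul_comm (g ^ (2 * k - d)), hc.gpow_P, zero_add,
    show d + (2 * k - d) = 2 * k by omega, hc.P_two, ← neg_one_smul F (hc.P 0)] at this
  exact (this.unscale (neg_ne_zero.mpr one_ne_zero)).congr rfl
    (by rw [map_neg, map_one, smul_smul]; congr 1; ring) (mul_zero _)

end IsCycle

variable (hF) in
include hF in
/-- Even dimension. -/
theorem two_gen_even (hk : 2 ≤ k) (hn : n = 2 * k) :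
    ∃ a b : Cfsg.SU n F q, Subgroup.closure {a, b} = ⊤ := by
  classical
  obtain ⟨Φ⟩ := exists_frame hF (t := 0) (show n = 2 * k + 0 by omega) (by omega)
  obtain ⟨g, gn, gl, gf⟩ := exists_cycle Φ (show 1 ≤ k by omega)
  have hc : IsCycle Φ g := ⟨by omega, gn, gl, gf⟩
  obtain ⟨μ, hμ⟩ := exists_gen hF
  have hq := two_le_q hF
  obtain ⟨p1, p2, p3⟩ := gen_powers hq hμ
  have hμ0 : (μ : F) ≠ 0 := μ.ne_zero
  have hσμ : σ (μ : F) = (μ : F) ^ q := conjHom_apply hF _
  have hσμ0 : σ (μ : F) ≠ 0 := (map_ne_zero_iff _ (RingHom.injective _)).mpr hμ0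
  set a : ℕ → F := fun i => if i = 0 then (μ : F) else if i = 1 then (μ : F)⁻¹ else 1 with hadef
  have ha : ∀ i, a i ≠ 0 := fun i => by simp only [hadef]; split_ifs <;> simp [hμ0]
  have hdet : (∏ i ∈ Finset.range k, a i / σ (a i)) * (1 : F) ^ 0 = 1 := by
    rw [pow_zero, mul_one, Finset.prod_eq_mul_of_mem 0 1 (Finset.mem_range.mpr (by omega))
      (Finset.mem_range.mpr (by omega)) (by omega)]
    · simp only [hadef, if_true, one_ne_zero, if_false, map_inv₀]; field_simp
    · intro c _ hne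
      simp only [hadef]
      rw [if_neg hne.1, if_neg hne.2, map_one, div_one]
  obtain ⟨h, hh, -⟩ := exists_diag Φ a ha 1 (by rw [map_one, one_mul]) hdet
  obtain ⟨r, hr0, hrk, hg0, hτ', hord⟩ : ∃ r, 0 < r ∧ r < k ∧ (r + k).Coprime (2 * k) ∧
      (a (k - 1))⁻¹ * a (r - 1) ≠ 1 ∧ ∀ m, 0 < m → m < q → (σ (a 0) * a r) ^ m ≠ 1 := by
    rcases Nat.even_or_odd k with hev | hod
    · refine ⟨1, one_pos, by omega, Nat.Coprime.mul_right ?_ ?_, ?_, ?_⟩
      · obtain ⟨p, rfl⟩ := hev
        rw [Nat.coprime_two_right, Nat.odd_iff]; omega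
      · exact Nat.coprime_add_self_left.mpr (Nat.coprime_one_left _)
      · simp only [hadef, Nat.sub_self, if_true]
        rw [if_neg (by omega)]
        split
        · rw [inv_inv]; exact p2
        · rw [inv_one, one_mul]; exact p1
      · intro m hm hmq
        simpa [hadef, hσμ] using (p3 m hm hmq).2
    · obtain ⟨p, rfl⟩ := hod
      refine ⟨2, two_pos, by omega, Nat.Coprime.mul_right ?_ ?_, ?_, ?_⟩
      · rw [Nat.coprime_two_right, Nat.odd_iff]; omega
      · exact Nat.coprime_add_self_left.mpr (Nat.coprime_two_left.mpr ⟨p, rfl⟩)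
      · simp only [hadef]
        rw [if_neg (show ¬ 2 * p + 1 - 1 = 0 by omega), if_neg (show ¬ 2 * p + 1 - 1 = 1 by omega)]
        simp only [show (2 : ℕ) - 1 = 1 by rfl, one_ne_zero, if_true, if_false, inv_one, one_mul]
        intro hh; exact p1 (inv_eq_one.mp hh)
      · intro m hm hmq
        simpa [hadef, hσμ] using (p3 m hm hmq).1
  set ε : ℕ → F := fun j => if j < k then a j else (σ (a (j - k)))⁻¹ with hε
  have hhP : ∀ j, j < 2 * k → h • hc.P j = ε j • hc.P j := fun j hj => by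
    rw [hc.P_lt hj]; exact hh ⟨j, hj⟩
  obtain ⟨d0, dP, -, dcomm⟩ := hc.diag_shift (z := 1) hhP (fun b => b.elim0)
  have hgood : Good hF (hc.P 0) (hc.P r) 0 :=
    ⟨hc.qP 0, hc.pol0 (by rw [Nat.mod_eq_of_lt (by omega)]; omega), by simp [hc.qP]⟩
  obtain ⟨x, hx⟩ := exists_eU hF hgood
  refine ⟨h, x * g, ?_⟩
  set H := Subgroup.closure {h, x * g} with hH
  have hhH : h ∈ H := Subgroup.subset_closure (by simp)
  have hxgH : x * g ∈ H := Subgroup.subset_closure (by simp)
  have hε0 : ε 0 = a 0 := by simp [hε, show 0 < k by omega]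
  have hεr : ε r = a r := by simp [hε, hrk]
  have hεr' : ε (r - 1) = a (r - 1) := by simp [hε, show r - 1 < k by omega]
  have hεl : ε (2 * k - 1) = (σ (a (k - 1)))⁻¹ := by
    simp only [hε]
    rw [if_neg (by omega), show 2 * k - 1 - k = k - 1 by omega]
  have hd1 : (g * h * g⁻¹) • hc.P r = a (r - 1) • hc.P r := by
    have := dP (r - 1) (by omega)
    rwa [show r - 1 + 1 = r by omega, hεr'] at this
  have hR : hc.All0 H r := fun α => by
    obtain ⟨C, hC0, hC⟩ := core (μ := a 0) (ν := a r) (μ' := (σ (a (k - 1)))⁻¹) (ν' := a (r - 1))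
      ⟨hgood, hx⟩ hhH hxgH (ha 0) (ha r)
      (inv_ne_zero ((map_ne_zero_iff _ (RingHom.injective _)).mpr (ha _)))
      (by rw [hhP 0 (by omega), hε0]) (by rw [hhP r (by omega), hεr]) (by rw [d0, hεl]) hd1 dcomm
      (by rw [map_inv₀, conjHom_conjHom]; exact hτ') hord α
    exact hC.congr rfl rfl (hC0 (hc.qP r) rfl)
  have hxH : x ∈ H := ((hR 1).congr rfl (one_smul F _) rfl).mem hx
  have hgH : g ∈ H := by simpa using H.mul_mem (H.inv_mem hxH) hxgH
  have hJ : ∀ N, N + 1 < k → hc.All0 H (r + N * (r + k)) := by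
    intro N
    induction N with
    | zero => intro _; simpa using hR
    | succ N ih =>
      intro hN
      have e1 : r + (N + 1) * (r + k) = r + N * (r + k) + k + r := by ring
      rw [e1]
      refine hc.all0_step hgH hr0 hrk (ih (by omega)) hR (fun h0 => ?_) (fun h0 => ?_)
      · apply (mult_avoid hg0 (show 0 < N + 1 by omega) (by omega)).2
        rw [show (N + 1) * (r + k) = r + N * (r + k) + k by ring, Nat.add_mod, h0, zero_add,
          Nat.mod_mod, Nat.mod_eq_of_lt (by omega)]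
      · apply (mult_avoid hg0 (show 0 < N + 2 by omega) (by omega)).1
        rw [show (N + 2) * (r + k) = r + N * (r + k) + k + r + k by ring, Nat.add_mod, h0,
          Nat.mod_eq_of_lt (show k < 2 * k by omega), ← two_mul, Nat.mod_self]
  have hall : ∀ j, j < 2 * k → j ≠ 0 → j ≠ k → hc.All0 H j := by
    intro j hj hj0 hjk
    obtain ⟨⟨N₀, hN₀⟩, hN⟩ : ∃ N : Fin (2 * k),
        N.1 * (r + k) % (2 * k) = (j + k) % (2 * k) := by
      have hinj : Function.Injective (fun N : Fin (2 * k) =>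
          (⟨N.1 * (r + k) % (2 * k), Nat.mod_lt _ (by omega)⟩ : Fin (2 * k))) := by
        intro u v huv
        have := Nat.ModEq.cancel_right_of_coprime (m := 2 * k) hg0.symm (Fin.mk.inj huv)
        exact Fin.ext (by rwa [Nat.ModEq, Nat.mod_eq_of_lt u.2, Nat.mod_eq_of_lt v.2] at this)
      obtain ⟨N, hN⟩ := (Finite.injective_iff_surjective.mp hinj) ⟨(j + k) % (2 * k), Nat.mod_lt _ (by omega)⟩
      exact ⟨N, Fin.mk.inj hN⟩
    simp only at hN
    have hjk' : (j + k) % (2 * k) = if j < k then j + k else j - k := by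
      split
      · exact Nat.mod_eq_of_lt (by omega)
      · rw [Nat.mod_eq_sub_mod (by omega), Nat.mod_eq_of_lt (by omega)]; omega
    have hN0 : N₀ ≠ 0 := by
      rintro rfl
      rw [zero_mul, Nat.zero_mod, hjk'] at hN
      split at hN <;> omega
    have hNk : N₀ ≠ k := by
      intro he
      rw [he] at hN
      have hodd : (r + k) % 2 = 1 := Nat.odd_iff.mp (Nat.coprime_two_right.mp (hg0.coprime_dvd_right (dvd_mul_right 2 k)))
      rw [show k * (r + k) = k * ((r + k) / 2 * 2 + 1) by rw [← hodd, mul_comm ((r + k) / 2), Nat.div_add_mod],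
        show k * ((r + k) / 2 * 2 + 1) = k + 2 * k * ((r + k) / 2) by ring, Nat.add_mul_mod_self_left,
        Nat.mod_eq_of_lt (by omega), hjk'] at hN
      split at hN <;> omega
    rcases Nat.lt_or_ge N₀ k with hlt | hge
    · have h1 := hc.all0_mod (hJ (N₀ - 1) (by omega))
      have e : (r + (N₀ - 1) * (r + k)) % (2 * k) = j := by
        have e1 : r + (N₀ - 1) * (r + k) + k = N₀ * (r + k) := by
          conv_rhs => rw [show N₀ = N₀ - 1 + 1 by omega]
          ring
        rw [← e1] at hN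
        have := Nat.ModEq.add_right_cancel' k hN
        rw [Nat.ModEq, Nat.mod_eq_of_lt hj] at this
        exact this
      rwa [e] at h1
    · set L := r + (2 * k - N₀ - 1) * (r + k) with hL
      have h1 := hc.all0_mod (hJ (2 * k - N₀ - 1) (by omega))
      rw [← hL] at h1
      have hLt := Nat.mod_lt L (show 2 * k > 0 by omega)
      have e : (L % (2 * k) + j) % (2 * k) = 0 := by
        have e1 : L + k + N₀ * (r + k) = 2 * k * (r + k) := by
          conv_rhs => rw [show 2 * k = 2 * k - N₀ - 1 + 1 + N₀ by omega]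
          rw [hL]; ring
        have e2 : (L + j + 2 * k) % (2 * k) = (L + k + N₀ * (r + k)) % (2 * k) := by
          rw [Nat.add_mod (L + k), hN, ← Nat.add_mod]
          congr 1
          omega
        rw [Nat.add_mod_right, e1, Nat.mul_mod_right] at e2
        rw [Nat.mod_add_mod, e2]
      have e' : L % (2 * k) + j = 2 * k := by
        rcases Nat.lt_or_ge (L % (2 * k) + j) (2 * k) with h' | h'
        · rw [Nat.mod_eq_of_lt h'] at e; omega
        · rw [Nat.mod_eq_sub_mod h', Nat.mod_eq_of_lt (by omega)] at e; omega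
      have h2 := hc.all0_mirror hgH (d := L % (2 * k)) (by omega)
        (by rw [Nat.mod_mod]; omega) h1
      rwa [show 2 * k - L % (2 * k) = j by omega] at h2
  have hl := long_of_pair (fun α => ⟨0, hR α⟩) (a' := hc.P (r + k)) (C' := 0)
    ((hall (r + k) (by omega) (by omega) (by omega) 1).congr rfl (one_smul F _) rfl)
    (by rw [← herm_symm hF, hc.pol_shift, hc.polk, Φ.hη]; exact neg_ne_zero.mpr Φ.hη0)
  exact hc.eq_top (by omega) (by omega) hgH hl (fun j hj hj0 hjk α => ⟨0, hall j hj hj0 hjk α⟩)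
    (fun b => b.elim0)

variable (hF) in
include hF in
/-- `SU_n(q)` is two-generated. -/
theorem su_two_gen (hn : 3 ≤ n) (h32 : n = 3 → q ≠ 2) :
    ∃ a b : Cfsg.SU n F q, Subgroup.closure {a, b} = ⊤ := by
  rcases Nat.even_or_odd n with ⟨k, hk⟩ | ⟨k, hk⟩
  · exact two_gen_even hF (k := k) (by omega) (by omega)
  · exact two_gen_odd hF (k := k) (by omega) (by omega) (fun h => h32 h.1 h.2)

end Cfsg.Agent.Lib.SUTwoGen
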