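import Cfsg.Agent.Lib.SUTwoGen.Basic
import Cfsg.Agent.Lib.Geometry.HermBasis

/-!
A hyperbolic basis, monomial elements, and the cycle.
-/

set_option autoImplicit false

namespace Cfsg.Agent.Lib.SUTwoGen

open Cfsg.Agent.Lib.Classical (hermBilin hermBilin_apply hermBilin_isSymm hermBilin_nondegenerate
  hermBilin_single conjHom conjHom_apply conjHom_conjHom conjHom_ne_id exists_SU_of_isometry herm_symm)
open Cfsg.Agent.Lib.Geometry (exists_add_conj_eq exists_mul_conj_eq)

variable {F : Type*} [Field F] [Fintype F] {q n : ℕ} (hF : Fintype.card F = q ^ 2) {k t : ℕ}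

set_option quotPrecheck false in
local notation "B" => hermBilin hF n
set_option quotPrecheck false in
local notation "σ" => conjHom hF

/-- The Gram function of the cyclically ordered basis. -/
def gram (η : F) : Fin (2 * k) ⊕ Fin t → Fin (2 * k) ⊕ Fin t → F
  | .inl a, .inl b => if a.1 + k = b.1 then η else if b.1 + k = a.1 then -η else 0
  | .inr a, .inr b => if a = b then 1 else 0
  | _, _ => 0

/-- `k` hyperbolic pairs and `t` unit vectors forming a basis. -/
structure Frame (k t : ℕ) where
  /-- the basis -/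
  b : Module.Basis (Fin (2 * k) ⊕ Fin t) F (Fin n → F)
  /-- the pairing -/
  η : F
  hη0 : η ≠ 0
  hη : σ η = -η
  hg : ∀ i j, B (b i) (b j) = gram η i j

theorem exists_frame (hn : n = 2 * k + t) (ht : t ≤ 1) : Nonempty (Frame (n := n) hF k t) := by
  classical
  obtain ⟨e₀, he₀⟩ : ∃ e : F, σ e ≠ e := by
    by_contra h
    push Not at h
    exact conjHom_ne_id hF (RingHom.ext h)
  set η := e₀ - σ e₀ with hηdef
  have hη0 : η ≠ 0 := sub_ne_zero.mpr (Ne.symm he₀)
  have hη : σ η = -η := by rw [hηdef, map_sub, conjHom_conjHom]; ring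
  obtain ⟨l, hl⟩ := exists_mul_conj_eq (conjHom_ne_id hF) (conjHom_conjHom hF) (s := (-1 : F))
    (by rw [map_neg, map_one])
  obtain ⟨c, hc⟩ := exists_add_conj_eq (conjHom_ne_id hF) (conjHom_conjHom hF) (s := (-1 : F))
    (by rw [map_neg, map_one])
  let ε : ℕ → (Fin n → F) := fun a => if h : a < n then Pi.single ⟨a, h⟩ 1 else 0
  have hε : ∀ a b, a < n → b < n → B (ε a) (ε b) = if a = b then 1 else 0 := fun a b ha hb => by
    simp only [ε, dif_pos ha, dif_pos hb, hermBilin_single, Pi.single_apply, Fin.ext_iff]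
  let ve : ℕ → (Fin n → F) := fun i => ε (2 * i) + l • ε (2 * i + 1)
  let vf : ℕ → (Fin n → F) := fun i => ε (2 * i) + c • ve i
  have hee : ∀ i j, i < k → j < k → B (ve i) (ve j) = 0 := fun i j hi hj => by
    simp only [ve, map_add, map_smul, map_smulₛₗ, LinearMap.add_apply, LinearMap.smul_apply,
      smul_eq_mul, hε (2 * i) (2 * j) (by omega) (by omega),
      hε (2 * i) (2 * j + 1) (by omega) (by omega), hε (2 * i + 1) (2 * j) (by omega) (by omega),
      hε (2 * i + 1) (2 * j + 1) (by omega) (by omega)]
    rw [if_neg (show ¬ 2 * i = 2 * j + 1 by omega), if_neg (show ¬ 2 * i + 1 = 2 * j by omega)]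
    rcases eq_or_ne i j with rfl | hij
    · rw [if_pos rfl, if_pos rfl]; linear_combination hl
    · rw [if_neg (by omega), if_neg (by omega)]; ring
  have hεe : ∀ i j, i < k → j < k → B (ε (2 * i)) (ve j) = if i = j then 1 else 0 := fun i j hi hj => by
    simp only [ve, map_add, map_smul, smul_eq_mul, hε (2 * i) (2 * j) (by omega) (by omega),
      hε (2 * i) (2 * j + 1) (by omega) (by omega)]
    rw [if_neg (show ¬ 2 * i = 2 * j + 1 by omega), mul_zero, add_zero]
    simp
  have heε : ∀ i j, i < k → j < k → B (ve i) (ε (2 * j)) = if i = j then 1 else 0 := fun i j hi hj => by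
    rw [← herm_symm hF (ε (2 * j)) (ve i), hεe j i hj hi]
    simp only [eq_comm]
    split <;> simp
  have hef : ∀ i j, i < k → j < k → B (ve i) (vf j) = if i = j then 1 else 0 := fun i j hi hj => by
    simp only [vf, map_add, map_smul, smul_eq_mul, hee i j hi hj, heε i j hi hj, mul_zero, add_zero]
  have hfe : ∀ i j, i < k → j < k → B (vf i) (ve j) = if i = j then 1 else 0 := fun i j hi hj => by
    simp only [vf, map_add, map_smulₛₗ, LinearMap.add_apply, LinearMap.smul_apply, smul_eq_mul,
      hee i j hi hj, hεe i j hi hj, mul_zero, add_zero]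
  have hff : ∀ i j, i < k → j < k → B (vf i) (vf j) = 0 := fun i j hi hj => by
    simp only [vf, map_add, map_smul, map_smulₛₗ, LinearMap.add_apply, LinearMap.smul_apply,
      smul_eq_mul, hee i j hi hj, hεe i j hi hj, heε i j hi hj, hε (2 * i) (2 * j) (by omega) (by omega)]
    rcases eq_or_ne i j with rfl | hij
    · simp only [if_true]; linear_combination hc
    · rw [if_neg (show ¬ i = j from hij), if_neg (by omega)]; ring
  have hze : ∀ i, i < k → t = 1 → B (ε (2 * k)) (ve i) = 0 ∧ B (ε (2 * k)) (vf i) = 0 := fun i hi h1 => by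
    have a : B (ε (2 * k)) (ve i) = 0 := by
      simp only [ve, map_add, map_smul, smul_eq_mul, hε (2 * k) (2 * i) (by omega) (by omega),
        hε (2 * k) (2 * i + 1) (by omega) (by omega)]
      rw [if_neg (by omega), if_neg (by omega)]; ring
    refine ⟨a, ?_⟩
    simp only [vf, map_add, map_smul, smul_eq_mul, a, hε (2 * k) (2 * i) (by omega) (by omega)]
    rw [if_neg (by omega)]; ring
  let v : Fin (2 * k) ⊕ Fin t → (Fin n → F) :=
    Sum.elim (fun a => if a.1 < k then ve a.1 else η • vf (a.1 - k)) (fun _ => ε (2 * k))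
  have hv : ∀ i j, B (v i) (v j) = gram η i j := by
    rintro (a | a) (b | b)
    · have := a.2; have := b.2
      simp only [v, Sum.elim_inl, gram]
      by_cases ha : a.1 < k <;> by_cases hb : b.1 < k <;> simp only [ha, hb, if_true, if_false,
        map_smul, map_smulₛₗ, LinearMap.smul_apply, smul_eq_mul]
      · rw [hee _ _ ha hb, if_neg (by omega), if_neg (by omega)]
      · rw [hef _ _ ha (by omega)]
        by_cases hh : a.1 = b.1 - k
        · rw [if_pos hh, if_pos (by omega), mul_one]
        · rw [if_neg hh, if_neg (by omega), if_neg (by omega), mul_zero]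
      · rw [hfe _ _ (by omega) hb, hη]
        by_cases hh : a.1 - k = b.1
        · rw [if_pos hh, if_neg (by omega), if_pos (by omega), mul_one]
        · rw [if_neg hh, if_neg (by omega), if_neg (by omega), mul_zero]
      · rw [hff _ _ (by omega) (by omega), if_neg (by omega), if_neg (by omega), mul_zero, mul_zero]
    · have := b.2; have := a.2
      simp only [v, Sum.elim_inl, Sum.elim_inr, gram]
      rw [← herm_symm hF]
      split
      · rw [(hze _ (by assumption) (by omega)).1, map_zero]
      · rw [map_smul, (hze _ (by omega) (by omega)).2, smul_zero, map_zero]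
    · have := b.2; have := a.2
      simp only [v, Sum.elim_inl, Sum.elim_inr, gram]
      split
      · exact (hze _ (by assumption) (by omega)).1
      · rw [map_smul, (hze _ (by omega) (by omega)).2, smul_zero]
    · have := a.2; have := b.2
      simp only [v, Sum.elim_inr, gram]
      rw [hε _ _ (by omega) (by omega), if_pos rfl, if_pos (Fin.ext (by omega))]
  have hli : LinearIndependent F v := by
    rw [Fintype.linearIndependent_iff]
    intro g hg i
    have key : ∀ j, ∑ x, g x * gram η j x = 0 := fun j => by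
      have := congrArg (B (v j)) hg
      simpa [map_sum, hv] using this
    rcases i with a | a
    · have := a.2
      let a' : Fin (2 * k) := ⟨if a.1 < k then a.1 + k else a.1 - k, by split <;> omega⟩
      have h := key (.inl a')
      rw [Finset.sum_eq_single (Sum.inl a)] at h
      · refine (mul_eq_zero.mp h).resolve_right ?_
        simp only [gram, a']
        by_cases hak : a.1 < k
        · simp only [hak, if_true]
          rw [if_neg (by omega)]; exact neg_ne_zero.mpr hη0
        · simp only [hak, if_false]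
          rw [if_pos (by omega)]; exact hη0
      · rintro (b | b) _ hb
        · have hne : b.1 ≠ a.1 := fun e => hb (congrArg Sum.inl (Fin.ext e))
          have := b.2
          simp only [gram, a']
          by_cases hak : a.1 < k
          · simp only [hak, if_true]
            rw [if_neg (by omega), if_neg (by omega), mul_zero]
          · simp only [hak, if_false]
            rw [if_neg (by omega), if_neg (by omega), mul_zero]
        · simp [gram]
      · simp
    · have h := key (.inr a)
      simpa [gram, Fintype.sum_sum_type] using h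
  exact ⟨⟨basisOfTopLeSpanOfCardEqFinrank v (hli.span_eq_top_of_card_eq_finrank' (by
      simp [hn])).ge (by simp [hn]), η, hη0, hη, fun i j => by
      rw [coe_basisOfTopLeSpanOfCardEqFinrank]; exact hv i j⟩⟩

variable {hF} (Φ : Frame (n := n) hF k t)

theorem su_ext_basis {A A' : Cfsg.SU n F q} (h : ∀ i, A • Φ.b i = A' • Φ.b i) : A = A' :=
  su_ext fun x => by
    rw [← Φ.b.sum_repr x, Finset.smul_sum, Finset.smul_sum]
    exact Finset.sum_congr rfl fun i _ => by rw [smul_comm A, smul_comm A', h i]

theorem exists_mono (π : Equiv.Perm (Fin (2 * k) ⊕ Fin t)) (d : Fin (2 * k) ⊕ Fin t → F)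
    (hgram : ∀ i j, σ (d i) * d j * gram Φ.η (π i) (π j) = gram Φ.η i j)
    (hdet : ((Equiv.Perm.sign π : ℤ) : F) * ∏ i, d i = 1) :
    ∃ A : Cfsg.SU n F q, ∀ i, A • Φ.b i = d i • Φ.b (π i) := by
  classical
  set L := Φ.b.constr F (fun i => d i • Φ.b (π i)) with hL
  have hLb : ∀ i, L (Φ.b i) = d i • Φ.b (π i) := fun i => by rw [hL, Module.Basis.constr_basis]
  have hiso : ∀ u v, B (L u) (L v) = B u v := by
    intro u v
    rw [← Φ.b.sum_repr u, ← Φ.b.sum_repr v]
    simp only [map_sum, map_smul, map_smulₛₗ, LinearMap.sum_apply, LinearMap.smul_apply, smul_eq_mul,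
      hLb, Φ.hg]
    refine Finset.sum_congr rfl fun i _ => ?_
    rw [Finset.mul_sum, Finset.mul_sum, Finset.mul_sum]
    refine Finset.sum_congr rfl fun j _ => ?_
    linear_combination (Φ.b.repr v i) * σ (Φ.b.repr u j) * hgram j i
  have hinj : Function.Injective L := by
    rw [injective_iff_map_eq_zero]
    intro y hy
    refine (hermBilin_nondegenerate hF n).1 y fun z => ?_
    rw [← hiso y z, hy, map_zero, LinearMap.zero_apply]
  let g := LinearEquiv.ofBijective L ⟨hinj, LinearMap.injective_iff_surjective.mp hinj⟩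
  have hM : LinearMap.toMatrix Φ.b Φ.b L = (Matrix.diagonal d).submatrix π.symm id := by
    ext i j
    rw [LinearMap.toMatrix_apply, hLb, map_smul, Module.Basis.repr_self, Finsupp.smul_single',
      Finsupp.single_apply, Matrix.submatrix_apply, Matrix.diagonal_apply, id]
    by_cases h : π j = i
    · subst h; simp
    · rw [if_neg h, if_neg]
      rintro rfl
      exact h (π.apply_symm_apply i)
  obtain ⟨A, hA⟩ := exists_SU_of_isometry hF g hiso (by
    show LinearMap.det L = 1
    rw [← LinearMap.det_toMatrix Φ.b, hM, Matrix.det_permute, Matrix.det_diagonal, Equiv.Perm.sign_symm]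
    exact hdet)
  exact ⟨A, fun i => (hA _).trans (hLb i)⟩

theorem val_finRotate : ∀ (m : ℕ) (a : Fin m), (finRotate m a).1 = (a.1 + 1) % m
  | 0, a => a.elim0
  | m + 1, a => by rw [finRotate_succ_apply, Fin.val_add, Fin.val_one']; simp [Nat.add_mod]

theorem exists_cycle (hk : 1 ≤ k) :
    ∃ g : Cfsg.SU n F q,
      (∀ (j : ℕ) (hj : j + 1 < 2 * k), g • Φ.b (.inl ⟨j, by omega⟩) = Φ.b (.inl ⟨j + 1, hj⟩)) ∧
      g • Φ.b (.inl ⟨2 * k - 1, by omega⟩) = -Φ.b (.inl ⟨0, by omega⟩) ∧
      ∀ a, g • Φ.b (.inr a) = Φ.b (.inr a) := by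
  classical
  let d : Fin (2 * k) ⊕ Fin t → F := Sum.elim (fun a => if a.1 + 1 = 2 * k then -1 else 1) fun _ => 1
  refine Exists.elim (exists_mono Φ (Equiv.sumCongr (finRotate (2 * k)) (Equiv.refl _)) d ?gm ?dt)
    fun g hg => ?main
  case gm =>
    rintro (a | a) (b | b)
    · have := a.2; have := b.2
      simp only [d, Sum.elim_inl, Equiv.sumCongr_apply, Sum.map_inl, gram, val_finRotate]
      rcases eq_or_ne (a.1 + 1) (2 * k) with ha | ha <;> rcases eq_or_ne (b.1 + 1) (2 * k) with hb | hb
      · rw [if_pos ha, if_pos hb, ha, hb, Nat.mod_self, map_neg, map_one]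
        rw [if_neg (by omega), if_neg (by omega), if_neg (by omega), if_neg (by omega)]; ring
      · rw [if_pos ha, if_neg hb, ha, Nat.mod_self, Nat.mod_eq_of_lt (by omega), map_neg, map_one,
          if_neg (show ¬ a.1 + k = b.1 by omega), if_neg (show ¬ b.1 + 1 + k = 0 by omega)]
        by_cases hh : b.1 + k = a.1
        · rw [if_pos hh, if_pos (by omega)]; ring
        · rw [if_neg hh, if_neg (by omega)]; ring
      · rw [if_neg ha, if_pos hb, hb, Nat.mod_self, Nat.mod_eq_of_lt (by omega), map_one,
          if_neg (show ¬ a.1 + 1 + k = 0 by omega), if_neg (show ¬ b.1 + k = a.1 by omega)]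
        by_cases hh : a.1 + k = b.1
        · rw [if_pos hh, if_pos (by omega)]; ring
        · rw [if_neg hh, if_neg (by omega)]; ring
      · rw [if_neg ha, if_neg hb, Nat.mod_eq_of_lt (by omega), Nat.mod_eq_of_lt (by omega), map_one,
          one_mul, one_mul]
        simp only [show a.1 + 1 + k = b.1 + 1 ↔ a.1 + k = b.1 by omega,
          show b.1 + 1 + k = a.1 + 1 ↔ b.1 + k = a.1 by omega]
    · simp [gram]
    · simp [gram]
    · simp [gram, d]
  case dt =>
    rw [Equiv.Perm.sign_sumCongr, Equiv.Perm.sign_refl, Fintype.prod_sum_type]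
    rw [show Equiv.Perm.sign (finRotate (2 * k)) = -1 by
      rw [sign_finRotate]; exact Odd.neg_one_pow ⟨k - 1, by omega⟩]
    simp only [d, Sum.elim_inl, Sum.elim_inr, Finset.prod_const_one, mul_one]
    rw [Finset.prod_eq_single (⟨2 * k - 1, by omega⟩ : Fin (2 * k))]
    · rw [if_pos (show 2 * k - 1 + 1 = 2 * k by omega)]
      simp [Equiv.Perm.sign_refl]
    · intro b _ hb
      rw [if_neg]
      intro h
      exact hb (Fin.ext (show b.1 = 2 * k - 1 by omega))
    · simp
  case main =>
    refine ⟨g, fun j hj => ?_, ?_, fun a => ?_⟩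
    · rw [hg]
      simp only [d, Sum.elim_inl, Equiv.sumCongr_apply, Sum.map_inl]
      rw [if_neg (by omega), one_smul]
      congr 2
      ext
      rw [val_finRotate]
      exact Nat.mod_eq_of_lt hj
    · rw [hg]
      simp only [d, Sum.elim_inl, Equiv.sumCongr_apply, Sum.map_inl]
      rw [if_pos (by omega), neg_one_smul]
      congr 3
      ext
      rw [val_finRotate]
      show (2 * k - 1 + 1) % (2 * k) = 0
      rw [show 2 * k - 1 + 1 = 2 * k by omega, Nat.mod_self]
    · rw [hg]; simp [d]

/-- Diagonal elements. -/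
theorem exists_diag (a : ℕ → F) (ha : ∀ i, a i ≠ 0) (z : F) (hz : σ z * z = 1)
    (hdet : (∏ i ∈ Finset.range k, a i / σ (a i)) * z ^ t = 1) :
    ∃ h : Cfsg.SU n F q,
      (∀ j : Fin (2 * k), h • Φ.b (.inl j) =
        (if j.1 < k then a j.1 else (σ (a (j.1 - k)))⁻¹) • Φ.b (.inl j)) ∧
      ∀ j, h • Φ.b (.inr j) = z • Φ.b (.inr j) := by
  classical
  let d : Fin (2 * k) ⊕ Fin t → F :=
    Sum.elim (fun j => if j.1 < k then a j.1 else (σ (a (j.1 - k)))⁻¹) fun _ => z
  have hσa : ∀ i, σ (a i) ≠ 0 := fun i => (map_ne_zero_iff _ (RingHom.injective _)).mpr (ha i)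
  refine Exists.elim (exists_mono Φ 1 d ?_ ?_)
    fun h hh => ⟨h, fun j => hh (.inl j), fun j => hh (.inr j)⟩
  · rintro (i | i) (j | j)
    · have := i.2; have := j.2
      simp only [d, Sum.elim_inl, Equiv.Perm.one_apply, gram]
      by_cases h1 : i.1 + k = j.1
      · rw [if_pos h1, if_pos (by omega), if_neg (by omega), show j.1 - k = i.1 by omega,
          mul_inv_cancel₀ (hσa _), one_mul]
      by_cases h2 : j.1 + k = i.1
      · rw [if_neg h1, if_pos h2, if_neg (show ¬ i.1 < k by omega), if_pos (show j.1 < k by omega),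
          map_inv₀, conjHom_conjHom, show i.1 - k = j.1 by omega, inv_mul_cancel₀ (ha _), one_mul]
      rw [if_neg h1, if_neg h2, mul_zero]
    · simp [gram]
    · simp [gram]
    · simp only [d, Sum.elim_inr, Equiv.Perm.one_apply, hz, one_mul]
  · rw [Equiv.Perm.sign_one, Fintype.prod_sum_type]
    simp only [d, Sum.elim_inl, Sum.elim_inr, Finset.prod_const, Finset.card_univ, Fintype.card_fin]
    rw [Fin.prod_univ_eq_prod_range (fun j => if j < k then a j else (σ (a (j - k)))⁻¹) (2 * k),
      two_mul, Finset.prod_range_add,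
      Finset.prod_congr rfl (fun i hi => if_pos (Finset.mem_range.mp hi)),
      Finset.prod_congr rfl (fun i _ => if_neg (show ¬ k + i < k by omega)), ← Finset.prod_mul_distrib]
    simpa [div_eq_mul_inv] using hdet

end Cfsg.Agent.Lib.SUTwoGen
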